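import Mathlib.GroupTheory.PGroup
import Mathlib.GroupTheory.Index
import Mathlib.GroupTheory.Subgroup.Centralizer
import Mathlib.Algebra.BigOperators.Group.Finset.Basic
import Mathlib.GroupTheory.GroupAction.ConjAct

/-!
Averaging over the cosets of a subgroup of index prime to `p`, acting on an elementary abelian `p`-subgroup.
-/

set_option autoImplicit false

namespace CfsgLib.CharP

variable {G : Type*} [Group G] [Finite G] {p : ℕ} [hp : Fact p.Prime]

theorem exists_fixed_of_normal {T K : Subgroup G} (hT : IsPGroup p ↥T) (hKT : K ≤ T)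
    (hTK : ∀ t ∈ T, ∀ k ∈ K, t * k * t⁻¹ ∈ K) (hne : K ≠ ⊥) :
    ∃ k ∈ K, k ≠ 1 ∧ k ∈ Subgroup.centralizer (T : Set G) := by
  set K' := K.subgroupOf T
  have hn : K'.Normal := ⟨fun k hk t => by
    simpa [K', Subgroup.mem_subgroupOf] using hTK t t.2 k (Subgroup.mem_subgroupOf.1 hk)⟩
  haveI := hn
  have hnt : Nontrivial ↥K' := by
    rw [Subgroup.nontrivial_iff_ne_bot, Ne, Subgroup.subgroupOf_eq_bot, disjoint_iff,
      inf_eq_left.2 hKT]
    exact hne
  obtain ⟨m, hm, hcard⟩ := (hT.to_subgroup K').nontrivial_iff_card.1 hnt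
  obtain ⟨b, hb, hb1⟩ := (hT.of_equiv ConjAct.toConjAct).exists_fixed_point_of_prime_dvd_card_of_fixed_point
    ↥K' (hcard ▸ dvd_pow_self p hm.ne') (a := 1) (fun g => smul_one g)
  refine ⟨(b : ↥T), Subgroup.mem_subgroupOf.1 b.2, fun h => hb1 (Subtype.ext (Subtype.ext h)).symm, ?_⟩
  rw [Subgroup.mem_centralizer_iff]
  intro t ht
  have h1 := congrArg (fun u : ↥K' => ((u : ↥T) : G)) (hb (ConjAct.toConjAct (⟨t, ht⟩ : ↥T)))
  simp [ConjAct.Subgroup.val_conj_smul, ConjAct.smul_def] at h1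
  exact mul_inv_eq_iff_eq_mul.1 h1

/-- Elements of `W` fixed by `S` are fixed by `X`, provided those fixed by `S` and `T` are. -/
theorem fixed_le_of_fixed_inf {X S W T : Subgroup G} (hWcomm : ∀ a ∈ W, ∀ b ∈ W, a * b = b * a)
    (hexp : ∀ w ∈ W, w ^ p = 1) (hWX : ∀ x ∈ X, ∀ w ∈ W, x * w * x⁻¹ ∈ W) (hSX : S ≤ X)
    (hidx : ¬ p ∣ S.relIndex X) (hT : IsPGroup p ↥T) (hWT : W ≤ T)
    (hTX : ∀ t ∈ T, ∀ x ∈ X, t * x * t⁻¹ ∈ X) (hTS : ∀ t ∈ T, ∀ x ∈ S, t * x * t⁻¹ ∈ S)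
    (hTW : ∀ t ∈ T, ∀ w ∈ W, t * w * t⁻¹ ∈ W)
    (hfix : ∀ v ∈ W, v ∈ Subgroup.centralizer (S : Set G) → v ∈ Subgroup.centralizer (T : Set G) →
      v ∈ Subgroup.centralizer (X : Set G)) :
    W ⊓ Subgroup.centralizer (S : Set G) ≤ Subgroup.centralizer (X : Set G) := by
  classical
  letI cg : CommGroup ↥W :=
    { (inferInstance : Group ↥W) with mul_comm := fun a b => Subtype.ext (hWcomm a a.2 b b.2) }
  set S' := S.subgroupOf X with hS'
  haveI : Fintype (↥X ⧸ S') := Fintype.ofFinite _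
  have hval : ∀ v : ↥W, (v : G) ∈ Subgroup.centralizer (S : Set G) → ∀ a b : ↥X, a⁻¹ * b ∈ S' →
      (a : G) * (v : G) * (a : G)⁻¹ = (b : G) * (v : G) * (b : G)⁻¹ := by
    intro v hv a b hab
    have h2 : Commute ((a : G)⁻¹ * b) (v : G) :=
      Subgroup.mem_centralizer_iff.1 hv _ (Subgroup.mem_subgroupOf.1 hab)
    calc (a : G) * v * (a : G)⁻¹ = (a : G) * ((v : G) * ((a : G)⁻¹ * b)) * ((a : G)⁻¹ * b)⁻¹ * (a : G)⁻¹ := by group
      _ = (a : G) * (((a : G)⁻¹ * b) * (v : G)) * ((a : G)⁻¹ * b)⁻¹ * (a : G)⁻¹ := by rw [h2.eq]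
      _ = (b : G) * v * (b : G)⁻¹ := by group
  let c : ↥X → ↥W →* ↥W := fun x =>
    { toFun := fun w => ⟨(x : G) * w * (x : G)⁻¹, hWX x x.2 w w.2⟩
      map_one' := by ext; simp
      map_mul' := fun u w => by ext; simp [mul_assoc] }
  let τ : ↥W → ↥W := fun v => ∏ q : ↥X ⧸ S', c q.out v
  have hτmul : ∀ u v : ↥W, τ (u * v) = τ u * τ v := fun u v => by
    simp only [τ, map_mul, Finset.prod_mul_distrib]
  have hout : ∀ x : ↥X, ((x : ↥X ⧸ S').out)⁻¹ * x ∈ S' := fun x =>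
    QuotientGroup.eq.1 (QuotientGroup.out_eq' (x : ↥X ⧸ S'))
  have hτX : ∀ v : ↥W, (v : G) ∈ Subgroup.centralizer (S : Set G) →
      ((τ v : ↥W) : G) ∈ Subgroup.centralizer (X : Set G) := by
    intro v hv
    rw [Subgroup.mem_centralizer_iff]
    intro x hx
    have h1 : c ⟨x, hx⟩ (τ v) = τ v := by
      simp only [τ, map_prod]
      refine Fintype.prod_equiv (MulAction.toPerm (⟨x, hx⟩ : ↥X)) _ _ fun q => ?_
      refine Subtype.ext ?_
      obtain ⟨a, rfl⟩ := QuotientGroup.mk_surjective q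
      change x * (((a : ↥X ⧸ S').out : G) * (v : G) * ((a : ↥X ⧸ S').out : G)⁻¹) * x⁻¹ =
        (((⟨x, hx⟩ * a : ↥X) : ↥X ⧸ S').out : G) * (v : G) * (((⟨x, hx⟩ * a : ↥X) : ↥X ⧸ S').out : G)⁻¹
      rw [hval v hv _ a (hout a), hval v hv _ _ (hout (⟨x, hx⟩ * a))]
      simp [mul_assoc]
    have h2 : x * ((τ v : ↥W) : G) * x⁻¹ = (τ v : ↥W) := congrArg Subtype.val h1
    exact mul_inv_eq_iff_eq_mul.1 h2
  have hτfix : ∀ v : ↥W, (v : G) ∈ Subgroup.centralizer (X : Set G) → τ v = v ^ S'.index := by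
    intro v hv
    have h1 : ∀ q : ↥X ⧸ S', c q.out v = v := fun q => by
      refine Subtype.ext ?_
      change (q.out : G) * (v : G) * (q.out : G)⁻¹ = v
      rw [Subgroup.mem_centralizer_iff.1 hv _ q.out.2, mul_inv_cancel_right]
    simp only [τ, h1, Finset.prod_const]
    rw [Subgroup.index, Nat.card_eq_fintype_card, Finset.card_univ]
  have hone : ∀ v : ↥W, v ^ S'.index = 1 → v = 1 := by
    intro v hv
    have h2 : v ^ p = 1 := Subtype.ext (by simpa using hexp v v.2)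
    have h3 : Nat.Coprime p S'.index := hp.out.coprime_iff_not_dvd.2 hidx
    have := pow_gcd_eq_one.2 ⟨h2, hv⟩
    rwa [h3.gcd_eq_one, pow_one] at this
  let K : Subgroup G :=
    { carrier := {v | ∃ h : v ∈ W, v ∈ Subgroup.centralizer (S : Set G) ∧ τ ⟨v, h⟩ = 1}
      one_mem' := ⟨W.one_mem, one_mem _, by
        show τ 1 = 1
        simp [τ]⟩
      mul_mem' := by
        rintro a b ⟨ha, ha1, ha2⟩ ⟨hb, hb1, hb2⟩
        refine ⟨W.mul_mem ha hb, mul_mem ha1 hb1, ?_⟩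
        show τ (⟨a, ha⟩ * ⟨b, hb⟩) = 1
        rw [hτmul, ha2, hb2, one_mul]
      inv_mem' := by
        rintro a ⟨ha, ha1, ha2⟩
        refine ⟨W.inv_mem ha, inv_mem ha1, ?_⟩
        have h := hτmul ⟨a, ha⟩ ⟨a, ha⟩⁻¹
        rw [mul_inv_cancel, ha2, one_mul] at h
        show τ (⟨a, ha⟩⁻¹) = 1
        rw [← h]
        simp [τ] }
  have hKbot : K = ⊥ := by
    by_contra hne
    have hTK : ∀ t ∈ T, ∀ k ∈ K, t * k * t⁻¹ ∈ K := by
      rintro t ht k ⟨hk, hk1, hk2⟩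
      refine ⟨hTW t ht k hk, ?_, ?_⟩
      · rw [Subgroup.mem_centralizer_iff]
        intro s hs
        have h1 : Commute (t⁻¹ * s * t) k :=
          Subgroup.mem_centralizer_iff.1 hk1 _ (by simpa using hTS t⁻¹ (T.inv_mem ht) s hs)
        simpa [mul_assoc] using (h1.map (MulAut.conj t).toMonoidHom).eq
      · let ct : ↥W →* ↥W :=
          { toFun := fun w => ⟨t * w * t⁻¹, hTW t ht w w.2⟩
            map_one' := by ext; simp
            map_mul' := fun u w => by ext; simp [mul_assoc] }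
        let σ : ↥X → ↥X := fun x => ⟨t * x * t⁻¹, hTX t ht x x.2⟩
        let π : ↥X ⧸ S' → ↥X ⧸ S' := Quotient.map σ fun a b hab => by
          refine QuotientGroup.leftRel_apply.2 ?_
          replace hab := QuotientGroup.leftRel_apply.1 hab
          rw [Subgroup.mem_subgroupOf] at hab ⊢
          simpa [σ, mul_assoc] using hTS t ht _ hab
        have hπ : Function.Bijective π := by
          rw [← Finite.injective_iff_bijective]
          intro a b hab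
          obtain ⟨a, rfl⟩ := QuotientGroup.mk_surjective a
          obtain ⟨b, rfl⟩ := QuotientGroup.mk_surjective b
          have h1 : (σ a)⁻¹ * σ b ∈ S' := QuotientGroup.eq.1 hab
          refine QuotientGroup.eq.2 ?_
          rw [Subgroup.mem_subgroupOf] at h1 ⊢
          simpa [σ, mul_assoc] using hTS t⁻¹ (T.inv_mem ht) _ h1
        have hv' : (t * k * t⁻¹ : G) ∈ Subgroup.centralizer (S : Set G) := by
          rw [Subgroup.mem_centralizer_iff]
          intro s hs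
          have h1 : Commute (t⁻¹ * s * t) k :=
            Subgroup.mem_centralizer_iff.1 hk1 _ (by simpa using hTS t⁻¹ (T.inv_mem ht) s hs)
          simpa [mul_assoc] using (h1.map (MulAut.conj t).toMonoidHom).eq
        have h3 : ct (τ ⟨k, hk⟩) = τ ⟨t * k * t⁻¹, hTW t ht k hk⟩ := by
          simp only [τ, map_prod]
          refine Fintype.prod_equiv (Equiv.ofBijective π hπ) _ _ fun q => ?_
          refine Subtype.ext ?_
          obtain ⟨a, rfl⟩ := QuotientGroup.mk_surjective q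
          change t * (((a : ↥X ⧸ S').out : G) * k * ((a : ↥X ⧸ S').out : G)⁻¹) * t⁻¹ =
            ((σ a : ↥X ⧸ S').out : G) * (t * k * t⁻¹) * ((σ a : ↥X ⧸ S').out : G)⁻¹
          rw [hval ⟨k, hk⟩ hk1 _ a (hout a), hval ⟨t * k * t⁻¹, hTW t ht k hk⟩ hv' _ _ (hout (σ a))]
          simp [σ, mul_assoc]
        rw [← h3, hk2, map_one]
    obtain ⟨k, ⟨hk, hk1, hk2⟩, hk3, hk4⟩ :=
      exists_fixed_of_normal hT (fun k hk => by obtain ⟨hk, -⟩ := hk; exact hWT hk) hTK hne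
    have := hτfix ⟨k, hk⟩ (hfix k hk hk1 hk4)
    rw [hk2] at this
    exact hk3 (congrArg Subtype.val (hone _ this.symm))
  rintro v ⟨hv, hv1⟩
  have hm : Nat.Coprime p S'.index := hp.out.coprime_iff_not_dvd.2 hidx
  obtain ⟨j, hj⟩ := exists_pow_eq_self_of_coprime (x := (⟨v, hv⟩ : ↥W)) (n := S'.index)
    (Nat.Coprime.coprime_dvd_right (orderOf_dvd_of_pow_eq_one (Subtype.ext (by simpa using hexp v hv))) hm.symm)
  have hτv : ((τ ⟨v, hv⟩ : ↥W) : G) ∈ Subgroup.centralizer (X : Set G) := hτX ⟨v, hv⟩ hv1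
  set u : ↥W := (τ ⟨v, hv⟩) ^ j with hu
  have huX : (u : G) ∈ Subgroup.centralizer (X : Set G) := by
    rw [hu, SubgroupClass.coe_pow]; exact pow_mem hτv j
  have hτpow : ∀ (w : ↥W) (i : ℕ), τ (w ^ i) = τ w ^ i := fun w i => by
    simp only [τ, map_pow, Finset.prod_pow]
  have hτu : τ u = τ ⟨v, hv⟩ := by
    rw [hτfix u huX, hu, ← pow_mul, mul_comm, pow_mul, ← hτpow, ← hτpow, hj]
  have hK : ((⟨v, hv⟩ * u⁻¹ : ↥W) : G) ∈ K := by
    refine ⟨(⟨v, hv⟩ * u⁻¹ : ↥W).2, mul_mem hv1 (inv_mem (Subgroup.centralizer_le hSX huX)), ?_⟩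
    have h := hτmul (⟨v, hv⟩ * u⁻¹) u
    rw [inv_mul_cancel_right, hτu] at h
    exact mul_eq_right.1 h.symm
  rw [hKbot, Subgroup.mem_bot] at hK
  have hvu : v = (u : G) := by
    rw [Subgroup.coe_mul, Subgroup.coe_inv, mul_inv_eq_one] at hK
    exact hK
  rw [hvu]; exact huX

/-- A cocycle into `W` vanishing on a subgroup of index prime to `p` is a coboundary. -/
theorem exists_eq_coboundary {X S W : Subgroup G} (hWcomm : ∀ a ∈ W, ∀ b ∈ W, a * b = b * a)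
    (hexp : ∀ w ∈ W, w ^ p = 1) (hWX : ∀ x ∈ X, ∀ w ∈ W, x * w * x⁻¹ ∈ W) (hSX : S ≤ X)
    (hidx : ¬ p ∣ S.relIndex X) (f : G → G) (hfW : ∀ x ∈ X, f x ∈ W)
    (hmul : ∀ x ∈ X, ∀ y ∈ X, f (x * y) = f x * (x * f y * x⁻¹)) (hS : ∀ s ∈ S, f s = 1) :
    ∃ b ∈ W, ∀ x ∈ X, f x = b * x * b⁻¹ * x⁻¹ := by
  classical
  letI cg : CommGroup ↥W :=
    { (inferInstance : Group ↥W) with mul_comm := fun a b => Subtype.ext (hWcomm a a.2 b b.2) }
  set S' := S.subgroupOf X with hS'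
  haveI : Fintype (↥X ⧸ S') := Fintype.ofFinite _
  let F : ↥X ⧸ S' → ↥W := Quotient.lift (fun x : ↥X => (⟨f x, hfW x x.2⟩ : ↥W)) fun a b hab => by
    refine Subtype.ext ?_
    have h1 : ((a⁻¹ * b : ↥X) : G) ∈ S := Subgroup.mem_subgroupOf.1 (QuotientGroup.leftRel_apply.1 hab)
    have h2 := hmul a a.2 _ (hSX h1)
    rw [hS _ h1, mul_one, mul_inv_cancel, mul_one] at h2
    show f a = f b
    rw [← h2]
    simp
  set A : ↥W := ∏ q, F q with hA
  have hm : Nat.Coprime p S'.index := hp.out.coprime_iff_not_dvd.2 hidx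
  have hpow : ∀ w : ↥W, ∃ j, (w ^ S'.index) ^ j = w := fun w =>
    exists_pow_eq_self_of_coprime
      (Nat.Coprime.coprime_dvd_right (orderOf_dvd_of_pow_eq_one (Subtype.ext (by simpa using hexp w w.2))) hm.symm)
  obtain ⟨j, hj⟩ : ∃ j, ∀ w : ↥W, (w ^ S'.index) ^ j = w := by
    obtain ⟨j, -, hj⟩ := Nat.exists_mul_mod_eq_one_of_coprime hm.symm hp.out.one_lt
    refine ⟨j, fun w => ?_⟩
    have hw : w ^ p = 1 := Subtype.ext (by simpa using hexp w w.2)
    rw [← pow_mul, pow_eq_pow_mod _ hw, hj, pow_one]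
  refine ⟨(A ^ j : ↥W), (A ^ j).2, fun x hx => ?_⟩
  let cx : ↥W →* ↥W :=
    { toFun := fun w => ⟨x * w * x⁻¹, hWX x hx w w.2⟩
      map_one' := by ext; simp
      map_mul' := fun u w => by ext; simp [mul_assoc] }
  have hAx : A = (⟨f x, hfW x hx⟩ : ↥W) ^ S'.index * cx A := by
    rw [hA, map_prod]
    have h1 : ∀ q : ↥X ⧸ S', F ((⟨x, hx⟩ : ↥X) • q) = ⟨f x, hfW x hx⟩ * cx (F q) := by
      intro q
      obtain ⟨a, rfl⟩ := QuotientGroup.mk_surjective q
      refine Subtype.ext ?_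
      change f (x * (a : G)) = f x * (x * f (a : G) * x⁻¹)
      exact hmul x hx a a.2
    rw [← Equiv.prod_comp (MulAction.toPerm (⟨x, hx⟩ : ↥X)) F]
    simp only [MulAction.toPerm_apply, h1, Finset.prod_mul_distrib, Finset.prod_const]
    rw [Subgroup.index, Nat.card_eq_fintype_card, Finset.card_univ]
  have h2 : A ^ j = ⟨f x, hfW x hx⟩ * cx (A ^ j) := by
    conv_lhs => rw [hAx]
    rw [mul_pow, hj, map_pow]
  have h3 : ((A ^ j : ↥W) : G) = f x * (x * ((A ^ j : ↥W) : G) * x⁻¹) := congrArg Subtype.val h2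
  calc f x = f x * (x * ((A ^ j : ↥W) : G) * x⁻¹) * (x * ((A ^ j : ↥W) : G) * x⁻¹)⁻¹ := by
        rw [mul_inv_cancel_right]
    _ = ((A ^ j : ↥W) : G) * x * ((A ^ j : ↥W) : G)⁻¹ * x⁻¹ := by rw [← h3]; group

end CfsgLib.CharP
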