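import Cfsg.Agent.Eq.Def_PLocal
import Cfsg.Prelude.Def_PLocal
import Cfsg.Agent.CharP.Averaging
import Cfsg.Agent.CharP.SylowInNormal
import Cfsg.Agent.CharP.PCore
import Cfsg.Agent.LocalP.Basic

/-!
The centralizer in a subnormal subgroup `L` of the socle of the centre of a Sylow subgroup.
-/

set_option autoImplicit false

namespace CfsgLib.CharP

variable {G : Type*} [Group G]

/-- Membership in the socle of the centre of `S`. -/
theorem mem_omegaOne_center {p : ℕ} {S : Subgroup G} {x : G} :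
    x ∈ Cfsg.omegaOne p (S ⊓ Subgroup.centralizer (S : Set G)) ↔
      x ∈ S ∧ x ∈ Subgroup.centralizer (S : Set G) ∧ x ^ p = 1 := by
  refine ⟨fun hx => ?_, fun h => Subgroup.subset_closure ⟨⟨h.1, h.2.1⟩, h.2.2⟩⟩
  have hle : Cfsg.omegaOne p (S ⊓ Subgroup.centralizer (S : Set G)) ≤
      S ⊓ Subgroup.centralizer (S : Set G) := (Subgroup.closure_le _).2 fun y hy => hy.1
  refine ⟨(hle hx).1, (hle hx).2, ?_⟩
  induction hx using Subgroup.closure_induction with
  | mem z hz => exact hz.2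
  | one => exact one_pow _
  | mul a b ha hb iha ihb =>
    have hab : Commute a b := Subgroup.mem_centralizer_iff.1 (hle hb).2 a (hle ha).1
    rw [hab.mul_pow, iha, ihb, one_mul]
  | inv a _ iha => rw [inv_pow, iha, inv_one]

theorem map_omegaOne_center {p : ℕ} {K : Type*} [Group K] (f : G →* K) (hf : Function.Injective f)
    (S : Subgroup G) :
    (Cfsg.omegaOne p (S ⊓ Subgroup.centralizer (S : Set G))).map f =
      Cfsg.omegaOne p (S.map f ⊓ Subgroup.centralizer ((S.map f : Subgroup K) : Set K)) := by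
  ext y
  rw [Subgroup.mem_map, mem_omegaOne_center]
  constructor
  · rintro ⟨x, hx, rfl⟩
    obtain ⟨h1, h2, h3⟩ := mem_omegaOne_center.1 hx
    refine ⟨Subgroup.mem_map_of_mem _ h1, Subgroup.mem_centralizer_iff.2 ?_, by rw [← map_pow, h3, map_one]⟩
    rintro _ ⟨s, hs, rfl⟩
    rw [← map_mul, ← map_mul, Subgroup.mem_centralizer_iff.1 h2 s hs]
  · rintro ⟨⟨x, hx, rfl⟩, h2, h3⟩
    refine ⟨x, mem_omegaOne_center.2 ⟨hx, Subgroup.mem_centralizer_iff.2 fun s hs => hf ?_,
      hf (by rw [map_pow, h3, map_one])⟩, rfl⟩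
    rw [map_mul, map_mul]
    exact Subgroup.mem_centralizer_iff.1 h2 _ (Subgroup.mem_map_of_mem _ hs)

variable [Finite G] {p : ℕ} [hp : Fact p.Prime]

theorem not_dvd_relIndex_inf_normal (T : Sylow p G) (L : Subgroup G) [L.Normal] :
    ¬ p ∣ ((T : Subgroup G) ⊓ L).relIndex L := by
  obtain ⟨Q, hQ⟩ := exists_sylow_eq_inf_normal T L
  have h : ((T : Subgroup G) ⊓ L).subgroupOf L = (Q : Subgroup ↥L) := by
    rw [← hQ, Subgroup.subgroupOf, Subgroup.comap_map_eq_self_of_injective L.subtype_injective]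
  rw [Subgroup.relIndex, h]
  exact Q.not_dvd_index

/-- The normal case. -/
theorem kieler_normal (hchar : Subgroup.centralizer (Cfsg.pCore p G : Set G) ≤ Cfsg.pCore p G)
    (T : Sylow p G) (L : Subgroup G) [hL : L.Normal] :
    L ⊓ Subgroup.centralizer (Cfsg.omegaOne p ((T : Subgroup G) ⊓
        Subgroup.centralizer ((T : Subgroup G) : Set G)) : Set G) =
      L ⊓ Subgroup.centralizer (Cfsg.omegaOne p (((T : Subgroup G) ⊓ L) ⊓
        Subgroup.centralizer (((T : Subgroup G) ⊓ L : Subgroup G) : Set G)) : Set G) := by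
  set Z := Cfsg.omegaOne p ((T : Subgroup G) ⊓ Subgroup.centralizer ((T : Subgroup G) : Set G))
  set S := (T : Subgroup G) ⊓ L with hS
  set ZL := Cfsg.omegaOne p (S ⊓ Subgroup.centralizer (S : Set G))
  set Q := Cfsg.pCore p G ⊓ L with hQ
  haveI : (Cfsg.pCore p G).Normal := Cfsg.pCore_normal p G
  have hQn : Q.Normal := Subgroup.normal_inf_normal _ _
  haveI := hQn
  have hQS : Q ≤ S := inf_le_inf_right L (pCore_le_sylow T)
  have hCQ : ∀ x ∈ L, x ∈ Subgroup.centralizer (Q : Set G) → x ∈ Q := by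
    intro x hx hxQ
    have h1 : (Cfsg.pCore p ↥L).map L.subtype ≤ Q :=
      le_inf (CfsgLib.LocalP.map_pCore_le_of_normal L) (Subgroup.map_subtype_le _)
    have h2 : (⟨x, hx⟩ : ↥L) ∈ Subgroup.centralizer (Cfsg.pCore p ↥L : Set ↥L) := by
      rw [Subgroup.mem_centralizer_iff]
      exact fun y hy => Subtype.ext (Subgroup.mem_centralizer_iff.1 hxQ _ (h1 (Subgroup.mem_map_of_mem _ hy)))
    exact h1 ⟨_, CfsgLib.LocalP.charP_of_isSubnormal hchar L hL.isSubnormal h2, rfl⟩
  set W := Cfsg.omegaOne p (Q ⊓ Subgroup.centralizer (Q : Set G))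
  have hW : ∀ x, x ∈ W ↔ x ∈ Q ∧ x ∈ Subgroup.centralizer (Q : Set G) ∧ x ^ p = 1 :=
    fun x => mem_omegaOne_center
  have hWcomm : ∀ a ∈ W, ∀ b ∈ W, a * b = b * a := fun a ha b hb =>
    Subgroup.mem_centralizer_iff.1 ((hW b).1 hb).2.1 a ((hW a).1 ha).1
  have hexp : ∀ w ∈ W, w ^ p = 1 := fun w hw => ((hW w).1 hw).2.2
  have hWn : ∀ g : G, ∀ w ∈ W, g * w * g⁻¹ ∈ W := by
    intro g w hw
    obtain ⟨h1, h2, h3⟩ := (hW w).1 hw
    refine (hW _).2 ⟨hQn.conj_mem w h1 g, ?_, by rw [conj_pow, h3]; simp⟩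
    exact (Subgroup.normal_centralizer (H := Q)).conj_mem w h2 g
  have hZL : ZL ≤ W := by
    intro x hx
    obtain ⟨h1, h2, h3⟩ := mem_omegaOne_center.1 hx
    have h4 : x ∈ Subgroup.centralizer (Q : Set G) := Subgroup.centralizer_le hQS h2
    exact (hW x).2 ⟨hCQ x h1.2 h4, h4, h3⟩
  refine le_antisymm ?_ ?_
  · set X := L ⊓ Subgroup.centralizer (Z : Set G) with hX
    have hSX : S ≤ X := fun s hs => ⟨hs.2, Subgroup.mem_centralizer_iff.2 fun z hz =>
      (Subgroup.mem_centralizer_iff.1 (mem_omegaOne_center.1 hz).2.1 s hs.1).symm⟩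
    have hidx : ¬ p ∣ S.relIndex X := fun h => not_dvd_relIndex_inf_normal T L
      (h.trans (Dvd.intro _ (Subgroup.relIndex_mul_relIndex S X L hSX inf_le_left)))
    have hTS : ∀ t ∈ (T : Subgroup G), ∀ x ∈ S, t * x * t⁻¹ ∈ S := fun t ht x hx =>
      ⟨(T : Subgroup G).mul_mem ((T : Subgroup G).mul_mem ht hx.1) ((T : Subgroup G).inv_mem ht), hL.conj_mem x hx.2 t⟩
    have hTX : ∀ t ∈ (T : Subgroup G), ∀ x ∈ X, t * x * t⁻¹ ∈ X := by
      intro t ht x hx
      refine ⟨hL.conj_mem x hx.1 t, Subgroup.mem_centralizer_iff.2 fun z hz => ?_⟩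
      have h1 : Commute t z := Subgroup.mem_centralizer_iff.1 (mem_omegaOne_center.1 hz).2.1 t ht
      have h2 : Commute z x := Subgroup.mem_centralizer_iff.1 hx.2 z hz
      exact ((h1.symm.mul_right h2).mul_right h1.symm.inv_right).eq
    have key := fixed_le_of_fixed_inf (X := X) (S := S) (W := W) (T := (T : Subgroup G)) hWcomm hexp
      (fun x _ => hWn x) hSX hidx T.isPGroup' (fun w hw => (hQS ((hW w).1 hw).1).1) hTX hTS
      (fun t _ => hWn t) (fun v hv _ hvT => Subgroup.mem_centralizer_iff.2 fun x hx =>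
        (Subgroup.mem_centralizer_iff.1 hx.2 v (mem_omegaOne_center.2
          ⟨(hQS ((hW v).1 hv).1).1, hvT, hexp v hv⟩)).symm)
    intro x hx
    refine ⟨hx.1, Subgroup.mem_centralizer_iff.2 fun v hv => ?_⟩
    exact (Subgroup.mem_centralizer_iff.1 (key ⟨hZL hv, (mem_omegaOne_center.1 hv).2.1⟩) x hx).symm
  · rintro x ⟨hxL, hxZ⟩
    refine ⟨hxL, Subgroup.mem_centralizer_iff.2 fun z hz => ?_⟩
    obtain ⟨hzT, hzC, hzp⟩ := mem_omegaOne_center.1 hz
    have hcz : ∀ s ∈ (T : Subgroup G), Commute z s := fun s hs =>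
      (Subgroup.mem_centralizer_iff.1 hzC s hs).symm
    let f : G → G := fun l => z * l * z⁻¹ * l⁻¹
    have hfW : ∀ l ∈ L, f l ∈ W := by
      intro l hl
      have hfL : f l ∈ L := mul_mem (hL.conj_mem l hl z) (inv_mem hl)
      have hfQ : f l ∈ Subgroup.centralizer (Q : Set G) := by
        rw [Subgroup.mem_centralizer_iff]
        intro q hq
        have h1 : Commute z q := hcz q (hQS hq).1
        have h2 : Commute z (l⁻¹ * q * l) :=
          hcz _ (hQS (by simpa using hQn.conj_mem q hq l⁻¹)).1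
        have h4 : f l * q = q * f l := by
          have e : f l * q = z * l * (z⁻¹ * (l⁻¹ * q * l)) * l⁻¹ := by simp only [f]; group
          rw [e, (h2.inv_left).eq]
          calc z * l * (l⁻¹ * q * l * z⁻¹) * l⁻¹ = (z * q) * l * z⁻¹ * l⁻¹ := by group
            _ = (q * z) * l * z⁻¹ * l⁻¹ := by rw [h1.eq]
            _ = q * f l := by simp only [f]; group
        exact h4.symm
      have hfmem := hCQ _ hfL hfQ
      refine (hW _).2 ⟨hfmem, hfQ, ?_⟩
      have hc : Commute z (f l) := hcz _ (hQS hfmem).1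
      have e : z * l * z⁻¹ = f l * l := by simp [f]
      have e2 := CfsgLib.Coprime.conj_pow_of_conj_eq_mul e hc.eq p
      rw [hzp] at e2
      simpa using e2.symm
    have hSf : ∀ s ∈ S, f s = 1 := fun s hs => by
      simp only [f]
      rw [(hcz s hs.1).eq]; group
    obtain ⟨b, hb, hbf⟩ := exists_eq_coboundary hWcomm hexp (fun x _ => hWn x)
      (inf_le_right : S ≤ L) (not_dvd_relIndex_inf_normal T L) f hfW
      (fun x _ y _ => by simp only [f]; group) hSf
    have hbS : b ∈ ZL := mem_omegaOne_center.2 ⟨hQS ((hW b).1 hb).1,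
      Subgroup.mem_centralizer_iff.2 fun s hs => by
        have h1 := hbf s hs.2
        rw [hSf s hs] at h1
        exact (mul_inv_eq_one.1 h1.symm |> mul_inv_eq_iff_eq_mul.1).symm, hexp b hb⟩
    have h1 := hbf x hxL
    rw [Subgroup.mem_centralizer_iff.1 hxZ b hbS, mul_inv_cancel_right, mul_inv_cancel] at h1
    exact mul_inv_eq_iff_eq_mul.1 (mul_inv_eq_one.1 h1)

/-- Kieler's lemma: for subnormal `L`, the centralizers in `L` of the two socles agree. -/
theorem kieler_subnormal (hchar : Subgroup.centralizer (Cfsg.pCore p G : Set G) ≤ Cfsg.pCore p G)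
    (T : Sylow p G) (L : Subgroup G) (hL : L.IsSubnormal) :
    L ⊓ Subgroup.centralizer (Cfsg.omegaOne p ((T : Subgroup G) ⊓
        Subgroup.centralizer ((T : Subgroup G) : Set G)) : Set G) =
      L ⊓ Subgroup.centralizer (Cfsg.omegaOne p (((T : Subgroup G) ⊓ L) ⊓
        Subgroup.centralizer (((T : Subgroup G) ⊓ L : Subgroup G) : Set G)) : Set G) := by
  induction hL with
  | top => rw [inf_top_eq]
  | step A B hAB hB hn ih =>
    obtain ⟨S, hS⟩ : ∃ S : Sylow p ↥B, (S : Subgroup ↥B).map B.subtype = (T : Subgroup G) ⊓ B := by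
      obtain ⟨S, hS⟩ := ((T.isPGroup'.to_le (inf_le_left : (T : Subgroup G) ⊓ B ≤ _)).of_equiv
        (Subgroup.subgroupOfEquivOfLe (inf_le_right : (T : Subgroup G) ⊓ B ≤ B)).symm).exists_le_sylow
      refine ⟨S, inf_subnormal_maximal T hB _ (Subgroup.map_subtype_le _) (S.isPGroup'.map _) ?_⟩
      intro x hx
      exact ⟨⟨x, hx.2⟩, hS (show (⟨x, hx.2⟩ : ↥B) ∈ ((T : Subgroup G) ⊓ B).subgroupOf B from hx), rfl⟩
    haveI := hn
    have h := kieler_normal (CfsgLib.LocalP.charP_of_isSubnormal hchar B hB) S (A.subgroupOf B)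
    have e1 : ∀ U : Subgroup ↥B, (A.subgroupOf B ⊓ Subgroup.centralizer (U : Set ↥B)).map B.subtype =
        A ⊓ Subgroup.centralizer ((U.map B.subtype : Subgroup G) : Set G) := by
      intro U
      ext x
      constructor
      · rintro ⟨y, ⟨hy1, hy2⟩, rfl⟩
        refine ⟨hy1, Subgroup.mem_centralizer_iff.2 ?_⟩
        rintro _ ⟨u, hu, rfl⟩
        exact congrArg Subtype.val (Subgroup.mem_centralizer_iff.1 hy2 u hu)
      · rintro ⟨hx1, hx2⟩
        refine ⟨⟨x, hAB hx1⟩, ⟨hx1, Subgroup.mem_centralizer_iff.2 fun u hu => Subtype.ext ?_⟩, rfl⟩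
        exact Subgroup.mem_centralizer_iff.1 hx2 _ (Subgroup.mem_map_of_mem _ hu)
    have h' := congrArg (Subgroup.map B.subtype) h
    rw [e1, e1, map_omegaOne_center _ B.subtype_injective, map_omegaOne_center _ B.subtype_injective,
      Subgroup.map_inf _ _ _ B.subtype_injective, hS, Subgroup.map_subgroupOf_eq_of_le hAB,
      inf_assoc (T : Subgroup G) B A, inf_eq_right.2 hAB] at h'
    rw [← h']
    have e2 := congrArg (fun U => A ⊓ U) ih
    simp only [← inf_assoc, inf_eq_left.2 hAB] at e2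
    exact e2

end CfsgLib.CharP
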