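import Cfsg.Agent.Eq.Def_LocalEven
import Cfsg.Prelude.Def_LocalEven
import Cfsg.Agent.CharP.Kieler
import Cfsg.Agent.CharP.SubnormalJoin

/-!
Kieler's lemma for `p`-elements in groups all of whose `p`-locals have characteristic `p`, and the point
stabilizer of a join of subnormal subgroups.
-/

set_option autoImplicit false

namespace CfsgLib.CharP

universe u

variable {G : Type u} [Group G] [Finite G] {p : ℕ} [hp : Fact p.Prime]

omit [Finite G] in
theorem mem_centralizer_map_subtype {B : Subgroup G} (U : Subgroup ↥B) {x : G} (hx : x ∈ B) :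
    x ∈ Subgroup.centralizer ((U.map B.subtype : Subgroup G) : Set G) ↔
      (⟨x, hx⟩ : ↥B) ∈ Subgroup.centralizer (U : Set ↥B) := by
  simp only [Subgroup.mem_centralizer_iff]
  refine ⟨fun h u hu => Subtype.ext (h _ (Subgroup.mem_map_of_mem _ hu)), ?_⟩
  rintro h _ ⟨u, hu, rfl⟩
  exact congrArg Subtype.val (h u hu)

theorem omegaOne_center_ne_bot {S : Subgroup G} (hS : IsPGroup p ↥S) (hne : S ≠ ⊥) :
    Cfsg.omegaOne p (S ⊓ Subgroup.centralizer (S : Set G)) ≠ ⊥ := by
  have : Nontrivial ↥S := (Subgroup.nontrivial_iff_ne_bot S).mpr hne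
  obtain ⟨n, hn, hcard⟩ :=
    ((hS.to_subgroup (Subgroup.center ↥S)).nontrivial_iff_card).mp hS.center_nontrivial
  obtain ⟨a, ha⟩ := exists_prime_orderOf_dvd_card' (G := Subgroup.center ↥S) p
    (hcard ▸ dvd_pow_self p hn.ne')
  intro hbot
  have hap : ((a : ↥S) : G) ^ p = 1 := by
    rw [← SubgroupClass.coe_pow, ← SubgroupClass.coe_pow, orderOf_dvd_iff_pow_eq_one.1 (dvd_of_eq ha)]
    rfl
  have hmem : ((a : ↥S) : G) ∈ Cfsg.omegaOne p (S ⊓ Subgroup.centralizer (S : Set G)) :=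
    mem_omegaOne_center.2 ⟨(a : ↥S).2, Subgroup.mem_centralizer_iff.2 fun s hs =>
      congrArg Subtype.val (Subgroup.mem_center_iff.1 a.2 ⟨s, hs⟩), hap⟩
  rw [hbot, Subgroup.mem_bot] at hmem
  have : a = 1 := Subtype.ext (Subtype.ext hmem)
  rw [this, orderOf_one] at ha
  exact hp.out.ne_one ha.symm

/-- Kieler's lemma inside an overgroup `N` of a Sylow subgroup, of characteristic `p`. -/
theorem kieler_in_subgroup (T : Sylow p G) {N L : Subgroup G} (hTN : (T : Subgroup G) ≤ N)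
    (hN : Subgroup.centralizer (Cfsg.pCore p ↥N : Set ↥N) ≤ Cfsg.pCore p ↥N) (hL : L.IsSubnormal)
    {x : G} (hxL : x ∈ L) (hxN : x ∈ N) :
    x ∈ Subgroup.centralizer (Cfsg.omegaOne p ((T : Subgroup G) ⊓
        Subgroup.centralizer ((T : Subgroup G) : Set G)) : Set G) ↔
      x ∈ Subgroup.centralizer (Cfsg.omegaOne p (((T : Subgroup G) ⊓ L) ⊓
        Subgroup.centralizer (((T : Subgroup G) ⊓ L : Subgroup G) : Set G)) : Set G) := by
  have h := kieler_subnormal hN (T.subtype hTN) (L.subgroupOf N) hL.subgroupOf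
  have h1 := SetLike.ext_iff.1 h ⟨x, hxN⟩
  have hmem : (⟨x, hxN⟩ : ↥N) ∈ L.subgroupOf N := hxL
  simp only [Subgroup.mem_inf, hmem, true_and, ← mem_centralizer_map_subtype _ hxN,
    map_omegaOne_center _ N.subtype_injective, Subgroup.map_inf _ _ _ N.subtype_injective] at h1
  rw [Sylow.coe_subtype, Subgroup.map_subgroupOf_eq_of_le hTN, Subgroup.subgroupOf_map_subtype,
    ← inf_assoc, inf_comm ((T : Subgroup G) ⊓ L) N, ← inf_assoc, inf_comm N (T : Subgroup G),
    inf_eq_left.2 hTN] at h1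
  exact h1

/-- All `p`-locals have characteristic `p`: this passes to subnormal subgroups. -/
theorem localCharP_subnormal
    (hG : ∀ R : Subgroup G, IsPGroup p ↥R → R ≠ ⊥ →
      Subgroup.centralizer (Cfsg.pCore p ↥(Subgroup.normalizer (R : Set G)) : Set ↥(Subgroup.normalizer (R : Set G))) ≤
        Cfsg.pCore p ↥(Subgroup.normalizer (R : Set G)))
    {B : Subgroup G} (hB : B.IsSubnormal) (R : Subgroup ↥B) (hR : IsPGroup p ↥R) (hne : R ≠ ⊥) :
    Subgroup.centralizer (Cfsg.pCore p ↥(Subgroup.normalizer (R : Set ↥B)) : Set ↥(Subgroup.normalizer (R : Set ↥B))) ≤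
      Cfsg.pCore p ↥(Subgroup.normalizer (R : Set ↥B)) := by
  set R' := R.map B.subtype
  set N := Subgroup.normalizer (R' : Set G) with hN
  have hne' : R' ≠ ⊥ := fun h => hne ((Subgroup.map_eq_bot_iff_of_injective _ B.subtype_injective).1 h)
  have hc := CfsgLib.LocalP.charP_of_isSubnormal (hG R' (hR.map _) hne') (B.subgroupOf N) hB.subgroupOf
  have key : ∀ x : ↥B, (x : G) ∈ N ↔ x ∈ Subgroup.normalizer (R : Set ↥B) := by
    intro x
    have hR' : ∀ y : ↥B, (y : G) ∈ R' ↔ y ∈ R := fun y => by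
      constructor
      · rintro ⟨z, hz, hzy⟩
        have : z = y := Subtype.ext hzy
        exact this ▸ hz
      · exact fun hy => ⟨y, hy, rfl⟩
    rw [hN, Subgroup.mem_normalizer_iff, Subgroup.mem_normalizer_iff]
    constructor
    · intro h y
      exact (hR' y).symm.trans ((h y).trans (hR' (x * y * x⁻¹)))
    · intro h y
      constructor
      · rintro ⟨z, hz, rfl⟩
        exact ⟨x * z * x⁻¹, (h z).1 hz, rfl⟩
      · rintro ⟨z, hz, hzy⟩
        refine ⟨x⁻¹ * z * x, (h _).2 (by simpa [mul_assoc] using hz), ?_⟩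
        have hzy' : (z : G) = x * y * (x : G)⁻¹ := hzy
        simp [hzy', mul_assoc]
  let e : ↥(B.subgroupOf N) ≃* ↥(Subgroup.normalizer (R : Set ↥B)) :=
    { toFun := fun x => ⟨⟨((x : ↥N) : G), x.2⟩, (key _).1 (x : ↥N).2⟩
      invFun := fun y => ⟨⟨((y : ↥B) : G), (key _).2 y.2⟩, (y : ↥B).2⟩
      left_inv := fun x => rfl
      right_inv := fun y => rfl
      map_mul' := fun x y => rfl }
  exact CfsgLib.LocalP.charP_of_mulEquiv e hc

/-- The normal case of Kieler's lemma for `p`-elements. -/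
theorem kieler_local_normal {H : Type*} [Group H] [Finite H]
    (hG : ∀ R : Subgroup H, IsPGroup p ↥R → R ≠ ⊥ →
      Subgroup.centralizer (Cfsg.pCore p ↥(Subgroup.normalizer (R : Set H)) : Set ↥(Subgroup.normalizer (R : Set H))) ≤
        Cfsg.pCore p ↥(Subgroup.normalizer (R : Set H)))
    (T : Sylow p H) (L : Subgroup H) [hL : L.Normal] {x : H} (hxL : x ∈ L) {k : ℕ} (hx : orderOf x = p ^ k) :
    x ∈ Subgroup.centralizer (Cfsg.omegaOne p ((T : Subgroup H) ⊓
        Subgroup.centralizer ((T : Subgroup H) : Set H)) : Set H) ↔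
      x ∈ Subgroup.centralizer (Cfsg.omegaOne p (((T : Subgroup H) ⊓ L) ⊓
        Subgroup.centralizer (((T : Subgroup H) ⊓ L : Subgroup H) : Set H)) : Set H) := by
  rcases eq_or_ne x 1 with rfl | hx1
  · exact iff_of_true (one_mem _) (one_mem _)
  have hk : k ≠ 0 := fun h => hx1 (orderOf_eq_one_iff.1 (by rw [hx, h, pow_zero]))
  have hpL : p ∣ Nat.card ↥L := (dvd_pow_self p hk).trans (hx ▸ Subgroup.orderOf_dvd_natCard L hxL)
  obtain ⟨Q, hQ⟩ := exists_sylow_eq_inf_normal T L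
  have hSne : (T : Subgroup H) ⊓ L ≠ ⊥ := fun h => Q.ne_bot_of_dvd_card hpL
    ((Subgroup.map_eq_bot_iff_of_injective _ L.subtype_injective).1 (hQ.trans h))
  have hTne : (T : Subgroup H) ≠ ⊥ := fun h => hSne (by rw [h, bot_inf_eq])
  set Z := Cfsg.omegaOne p ((T : Subgroup H) ⊓ Subgroup.centralizer ((T : Subgroup H) : Set H))
  set ZL := Cfsg.omegaOne p (((T : Subgroup H) ⊓ L) ⊓
    Subgroup.centralizer (((T : Subgroup H) ⊓ L : Subgroup H) : Set H))
  have hZp : IsPGroup p ↥Z := T.isPGroup'.to_le fun z hz => (mem_omegaOne_center.1 hz).1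
  have hZLp : IsPGroup p ↥ZL := T.isPGroup'.to_le fun z hz => (mem_omegaOne_center.1 hz).1.1
  have hT1 : (T : Subgroup H) ≤ Subgroup.normalizer (Z : Set H) := fun t ht =>
    Subgroup.centralizer_le_normalizer _ (Subgroup.mem_centralizer_iff.2 fun z hz =>
      (Subgroup.mem_centralizer_iff.1 (mem_omegaOne_center.1 hz).2.1 t ht).symm)
  have hT2 : (T : Subgroup H) ≤ Subgroup.normalizer (ZL : Set H) := by
    have key : ∀ t ∈ (T : Subgroup H), ∀ z ∈ ZL, t * z * t⁻¹ ∈ ZL := by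
      intro t ht z hz
      obtain ⟨h1, h2, h3⟩ := mem_omegaOne_center.1 hz
      have hS : ∀ t ∈ (T : Subgroup H), ∀ s ∈ (T : Subgroup H) ⊓ L, t * s * t⁻¹ ∈ (T : Subgroup H) ⊓ L :=
        fun t ht s hs => ⟨(T : Subgroup H).mul_mem ((T : Subgroup H).mul_mem ht hs.1)
          ((T : Subgroup H).inv_mem ht), hL.conj_mem s hs.2 t⟩
      refine mem_omegaOne_center.2 ⟨hS t ht z h1, Subgroup.mem_centralizer_iff.2 fun s hs => ?_,
        by rw [conj_pow, h3]; simp⟩
      have h4 : Commute (t⁻¹ * s * t) z := Subgroup.mem_centralizer_iff.1 h2 _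
        (by
          have h5 := hS t⁻¹ ((T : Subgroup H).inv_mem ht) s hs
          rwa [inv_inv] at h5)
      simpa [mul_assoc] using (h4.map (MulAut.conj t).toMonoidHom).eq
    intro t ht
    rw [Subgroup.mem_normalizer_iff]
    intro z
    refine ⟨key t ht z, fun hz => ?_⟩
    simpa [mul_assoc] using key t⁻¹ ((T : Subgroup H).inv_mem ht) _ hz
  constructor
  · intro hxZ
    exact (kieler_in_subgroup T hT1 (hG Z hZp (omegaOne_center_ne_bot T.isPGroup' hTne)) hL.isSubnormal hxL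
      (Subgroup.centralizer_le_normalizer _ hxZ)).1 hxZ
  · intro hxZ
    exact (kieler_in_subgroup T hT2 (hG ZL hZLp
      (omegaOne_center_ne_bot (T.isPGroup'.to_le inf_le_left) hSne)) hL.isSubnormal hxL
      (Subgroup.centralizer_le_normalizer _ hxZ)).2 hxZ

/-- Kieler's lemma for `p`-elements of subnormal subgroups. -/
theorem kieler_local
    (hG : ∀ R : Subgroup G, IsPGroup p ↥R → R ≠ ⊥ →
      Subgroup.centralizer (Cfsg.pCore p ↥(Subgroup.normalizer (R : Set G)) : Set ↥(Subgroup.normalizer (R : Set G))) ≤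
        Cfsg.pCore p ↥(Subgroup.normalizer (R : Set G)))
    (T : Sylow p G) {L : Subgroup G} (hL : L.IsSubnormal) :
    ∀ x ∈ L, ∀ k : ℕ, orderOf x = p ^ k →
    (x ∈ Subgroup.centralizer (Cfsg.omegaOne p ((T : Subgroup G) ⊓
        Subgroup.centralizer ((T : Subgroup G) : Set G)) : Set G) ↔
      x ∈ Subgroup.centralizer (Cfsg.omegaOne p (((T : Subgroup G) ⊓ L) ⊓
        Subgroup.centralizer (((T : Subgroup G) ⊓ L : Subgroup G) : Set G)) : Set G)) := by
  induction hL with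
  | top => intro x _ k _; rw [inf_top_eq]
  | step A B hAB hB hn ih =>
    intro x hxA k hk
    refine (ih x (hAB hxA) k hk).trans ?_
    obtain ⟨S, hS⟩ := exists_sylow_eq_inf_subnormal T hB
    haveI := hn
    have h := kieler_local_normal (localCharP_subnormal hG hB) S (A.subgroupOf B)
      (x := ⟨x, hAB hxA⟩) hxA (by rw [Subgroup.orderOf_mk]; exact hk)
    rw [← mem_centralizer_map_subtype _ (hAB hxA), ← mem_centralizer_map_subtype _ (hAB hxA),
      map_omegaOne_center _ B.subtype_injective, map_omegaOne_center _ B.subtype_injective,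
      Subgroup.map_inf _ _ _ B.subtype_injective, hS, Subgroup.map_subgroupOf_eq_of_le hAB,
      inf_assoc (T : Subgroup G) B A, inf_eq_right.2 hAB] at h
    exact h

/-- The point stabilizer of a join of subnormal subgroups. -/
theorem pointStabilizer_sup
    (hG : ∀ R : Subgroup G, IsPGroup p ↥R → R ≠ ⊥ →
      Subgroup.centralizer (Cfsg.pCore p ↥(Subgroup.normalizer (R : Set G)) : Set ↥(Subgroup.normalizer (R : Set G))) ≤
        Cfsg.pCore p ↥(Subgroup.normalizer (R : Set G)))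
    (T : Sylow p G) {L₁ L₂ : Subgroup G} (h₁ : L₁.IsSubnormal) (h₂ : L₂.IsSubnormal) :
    Cfsg.pointStabilizer p (L₁ ⊔ L₂) ((T : Subgroup G) ⊓ (L₁ ⊔ L₂)) =
      Cfsg.pointStabilizer p L₁ ((T : Subgroup G) ⊓ L₁) ⊔ Cfsg.pointStabilizer p L₂ ((T : Subgroup G) ⊓ L₂) := by
  set C := Subgroup.centralizer (Cfsg.omegaOne p ((T : Subgroup G) ⊓
    Subgroup.centralizer ((T : Subgroup G) : Set G)) : Set G) with hC
  let E : Subgroup G → Subgroup G := fun L => Subgroup.closure {x | x ∈ L ⊓ C ∧ ∃ k : ℕ, orderOf x = p ^ k}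
  have hE : ∀ L : Subgroup G, L.IsSubnormal →
      Cfsg.pointStabilizer p L ((T : Subgroup G) ⊓ L) = E L := by
    intro L hL
    refine congrArg Subgroup.closure (Set.ext fun x => ?_)
    constructor
    · rintro ⟨⟨hxL, hxC⟩, k, hk⟩
      exact ⟨⟨hxL, (kieler_local hG T hL x hxL k hk).2 hxC⟩, k, hk⟩
    · rintro ⟨⟨hxL, hxC⟩, k, hk⟩
      exact ⟨⟨hxL, (kieler_local hG T hL x hxL k hk).1 hxC⟩, k, hk⟩
  have hJsn : (L₁ ⊔ L₂).IsSubnormal := CfsgLib.Subnormal.isSubnormal_sup h₁ h₂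
  rw [hE _ hJsn, hE _ h₁, hE _ h₂]
  have hmono : ∀ L M : Subgroup G, L ≤ M → E L ≤ E M := fun L M h =>
    Subgroup.closure_mono fun x hx => ⟨⟨h hx.1.1, hx.1.2⟩, hx.2⟩
  refine le_antisymm ?_ (sup_le (hmono _ _ le_sup_left) (hmono _ _ le_sup_right))
  set J := (L₁ ⊔ L₂) ⊓ C
  have hTC : (T : Subgroup G) ≤ C := fun t ht => Subgroup.mem_centralizer_iff.2 fun z hz =>
    (Subgroup.mem_centralizer_iff.1 (mem_omegaOne_center.1 hz).2.1 t ht).symm
  have hEle : ∀ L : Subgroup G, E L ≤ L ⊓ C := fun L => (Subgroup.closure_le _).2 fun x hx => hx.1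
  have hEsn : ∀ L : Subgroup G, L.IsSubnormal → L ≤ L₁ ⊔ L₂ → ((E L).subgroupOf J).IsSubnormal := by
    intro L hL hle
    have h1 : (L ⊓ C).subgroupOf J = L.subgroupOf J := by
      ext y
      exact ⟨fun h => h.1, fun h => ⟨h, y.2.2⟩⟩
    have h2 : (((E L).subgroupOf J).subgroupOf ((L ⊓ C).subgroupOf J)).Normal := by
      refine ⟨fun y hy g => ?_⟩
      have hg : ((g : ↥J) : G) ∈ L ⊓ C := g.2
      have hconj : E L ≤ (E L).comap (MulAut.conj ((g : ↥J) : G)).toMonoidHom := by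
        refine (Subgroup.closure_le _).2 fun x hx => ?_
        refine Subgroup.subset_closure ⟨(L ⊓ C).mul_mem ((L ⊓ C).mul_mem hg hx.1) ((L ⊓ C).inv_mem hg), ?_⟩
        obtain ⟨k, hk⟩ := hx.2
        exact ⟨k, (MulEquiv.orderOf_eq (MulAut.conj ((g : ↥J) : G)) x).trans hk⟩
      exact hconj hy
    exact Subgroup.IsSubnormal.trans (Subgroup.comap_mono (hEle L)) h2.isSubnormal
      (show ((L ⊓ C).subgroupOf J).IsSubnormal by rw [h1]; exact hL.subgroupOf)
  set K := E L₁ ⊔ E L₂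
  have hKJ : K ≤ J := sup_le ((hEle _).trans (inf_le_inf_right _ le_sup_left))
    ((hEle _).trans (inf_le_inf_right _ le_sup_right))
  have hKsn : (K.subgroupOf J).IsSubnormal :=
    CfsgLib.Subnormal.subgroupOf_sup_isSubnormal ((hEle _).trans (inf_le_inf_right _ le_sup_left))
      ((hEle _).trans (inf_le_inf_right _ le_sup_right)) (hEsn _ h₁ le_sup_left) (hEsn _ h₂ le_sup_right)
  obtain ⟨S, hS⟩ := exists_sylow_eq_inf_subnormal T hJsn
  have hTK : (T : Subgroup G) ⊓ (L₁ ⊔ L₂) ≤ K := by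
    rw [inf_sup_subnormal T h₁ h₂]
    have : ∀ L : Subgroup G, (T : Subgroup G) ⊓ L ≤ E L := fun L x hx => by
      obtain ⟨k, hk⟩ := IsPGroup.iff_orderOf.1 T.isPGroup' ⟨x, hx.1⟩
      exact Subgroup.subset_closure ⟨⟨hx.2, hTC hx.1⟩, k, by rwa [Subgroup.orderOf_mk] at hk⟩
    exact sup_le ((this _).trans le_sup_left) ((this _).trans le_sup_right)
  refine (Subgroup.closure_le _).2 ?_
  rintro x ⟨hxJ, k, hk⟩
  have hSJ : (S : Subgroup ↥(L₁ ⊔ L₂)).map (L₁ ⊔ L₂).subtype ≤ J := by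
    rw [hS]; exact le_inf inf_le_right (inf_le_left.trans hTC)
  have hSJ' : (S : Subgroup ↥(L₁ ⊔ L₂)) ≤ J.subgroupOf (L₁ ⊔ L₂) := fun y hy =>
    hSJ (Subgroup.mem_map_of_mem _ hy)
  let e := Subgroup.subgroupOfEquivOfLe (inf_le_left : J ≤ L₁ ⊔ L₂)
  have hmem := mem_of_pElement_of_sylow_le ((S.subtype hSJ').mapSurjective (f := e.toMonoidHom) e.surjective)
    hKsn (fun y hy => by
      obtain ⟨z, hz, rfl⟩ := hy
      refine hTK ?_
      rw [← hS]
      exact Subgroup.mem_map_of_mem _ hz)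
    (x := ⟨x, hxJ⟩) (by rw [Subgroup.orderOf_mk]; exact hk)
  exact hmem

end CfsgLib.CharP
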