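import Cfsg.Agent.CharP.SubnormalJoin
import Cfsg.Agent.CharP.PReduced
import Cfsg.Agent.Coprime.Stabilizer
import Mathlib.Tactic.Ring

/-!
`O^p` of subnormal subgroups and `p`-reduced normal subgroups.
-/

set_option autoImplicit false

namespace CfsgLib.CharP

open scoped commutatorElement

variable {G : Type*} [Group G] [Finite G] {p : ℕ} [hp : Fact p.Prime]

/-- A normal `p`-subgroup normalizes `O^p` of every subnormal subgroup. -/
theorem conj_mem_pResidual_subnormal {V K : Subgroup G} (hV : V.Normal) (hVp : IsPGroup p ↥V)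
    (hK : K.IsSubnormal) :
    ∀ v ∈ V, ∀ r ∈ (Cfsg.pResidual p ↥K).map K.subtype, v * r * v⁻¹ ∈ (Cfsg.pResidual p ↥K).map K.subtype := by
  intro v hv r hr
  haveI := hV
  set X := K ⊔ V
  have hidx : ∀ x ∈ X, (orderOf x).Coprime p → x ∈ K := by
    intro x hx hxp
    obtain ⟨n, hn⟩ := hVp.exists_card_eq
    have h1 : K.relIndex X ∣ p ^ n := by
      have e1 : K.relIndex X * Nat.card ↥K = V.relIndex X * Nat.card ↥V := by
        rw [mul_comm (K.relIndex X), mul_comm (V.relIndex X), ← Subgroup.relIndex_bot_left K,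
          ← Subgroup.relIndex_bot_left V, Subgroup.relIndex_mul_relIndex _ _ _ bot_le le_sup_left,
          Subgroup.relIndex_mul_relIndex _ _ _ bot_le le_sup_right]
      have e2 : V.relIndex X = V.relIndex K := Subgroup.relIndex_sup_right (H := K) (K := V)
      refine (mul_dvd_mul_iff_right (Nat.card_pos (α := ↥K)).ne').1 ?_
      rw [e1, e2, ← hn, mul_comm (Nat.card ↥V)]
      exact Nat.mul_dvd_mul_right (Subgroup.relIndex_dvd_card V K) _
    have h2 := mem_of_coprime_index (K := K.subgroupOf X) hK.subgroupOf ⟨x, hx⟩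
      (by rw [Subgroup.orderOf_mk]; exact (hxp.pow_right n).coprime_dvd_right h1)
    exact h2
  obtain ⟨r, hr, rfl⟩ := hr
  induction hr using Subgroup.closure_induction with
  | mem y hy =>
    have hc : (orderOf (v * (y : G) * v⁻¹)).Coprime p := by
      rw [← MulAut.conj_apply, MulEquiv.orderOf_eq, Subgroup.orderOf_coe]; exact hy
    have hm : v * (y : G) * v⁻¹ ∈ K := hidx _ (X.mul_mem (X.mul_mem (Subgroup.mem_sup_right hv)
      (Subgroup.mem_sup_left y.2)) (X.inv_mem (Subgroup.mem_sup_right hv))) hc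
    exact ⟨⟨_, hm⟩, mem_pResidual_of_coprime (by rw [Subgroup.orderOf_mk]; exact hc), rfl⟩
  | one => simp [one_mem]
  | mul a b _ _ iha ihb =>
    have := mul_mem iha ihb
    simpa [map_mul, mul_assoc] using this
  | inv a _ iha =>
    have := inv_mem iha
    simpa [map_inv, mul_assoc] using this

/-- A subnormal subgroup acting as a `p`-group on a `p`-reduced normal subgroup centralizes it. -/
theorem pReduced_le_centralizer_subnormal {V D : Subgroup G} (hV : Cfsg.IsPReducedNormal p V)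
    (hD : D.IsSubnormal) (h : ∀ d ∈ D, ∃ k : ℕ, d ^ p ^ k ∈ Subgroup.centralizer (V : Set G)) :
    D ≤ Subgroup.centralizer (V : Set G) := by
  obtain ⟨_, _, hn, hcore⟩ := hV
  haveI := hn
  set C := Subgroup.centralizer (V : Set G)
  have hp' : IsPGroup p ↥(D.map (QuotientGroup.mk' C)) := by
    rintro ⟨_, d, hd, rfl⟩
    obtain ⟨k, hk⟩ := h d hd
    exact ⟨k, Subtype.ext (by
      rw [SubgroupClass.coe_pow, OneMemClass.coe_one, ← map_pow]
      exact (QuotientGroup.eq_one_iff _).2 hk)⟩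
  obtain ⟨N, hNn, hNp, hle⟩ := CfsgLib.Subnormal.exists_normal_isPGroup_of_isSubnormal
    (hD.map (QuotientGroup.mk'_surjective C)) hp'
  intro d hd
  have h1 := le_pCore hNn hNp (hle (Subgroup.mem_map_of_mem _ hd))
  rw [hcore, Subgroup.mem_bot] at h1
  exact (QuotientGroup.eq_one_iff _).1 h1

theorem commutator_pResidual_pReduced {V : Subgroup G} (hV : Cfsg.IsPReducedNormal p V) {K : Subgroup G}
    (hK : K.IsSubnormal) :
    ⁅V, (Cfsg.pResidual p ↥K).map K.subtype⁆ ≤ K ∧
      Cfsg.IsPReducedNormal p ((⁅V, (Cfsg.pResidual p ↥K).map K.subtype⁆).subgroupOf K) := by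
  haveI := hV.1
  set R := (Cfsg.pResidual p ↥K).map K.subtype with hR
  have hRK : R ≤ K := Subgroup.map_subtype_le _
  set W := ⁅V, R⁆
  have hWR : W ≤ R := Subgroup.commutator_le.2 fun v hv r hr =>
    R.mul_mem (conj_mem_pResidual_subnormal hV.1 (isPGroup_of_exponent hV.2.1) hK v hv r hr) (R.inv_mem hr)
  have hWV : W ≤ V := Subgroup.commutator_le_left V R
  refine ⟨hWR.trans hRK, isPReducedNormal_of ?_ ?_ ?_⟩
  · refine ⟨fun w hw g => ?_⟩
    have hle : W ≤ W.comap (MulAut.conj (g : G)).toMonoidHom := by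
      refine Subgroup.commutator_le.2 fun v hv r hr => ?_
      have e : (MulAut.conj (g : G)).toMonoidHom ⁅v, r⁆ =
          ⁅(g : G) * v * (g : G)⁻¹, (g : G) * r * (g : G)⁻¹⁆ := map_commutatorElement _ _ _
      rw [Subgroup.mem_comap, e]
      refine Subgroup.commutator_mem_commutator (hV.1.conj_mem v hv g) ?_
      obtain ⟨r, hr, rfl⟩ := hr
      exact ⟨g * r * g⁻¹, (pResidual_normal).conj_mem r hr g, rfl⟩
    exact hle hw
  · refine ⟨⟨⟨fun a b => ?_⟩⟩, fun a ha => ?_⟩
    · have h := hV.2.1.1.is_comm.comm (⟨_, hWV a.2⟩ : ↥V) ⟨_, hWV b.2⟩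
      exact Subtype.ext (Subtype.ext (congrArg (Subtype.val : ↥V → G) h))
    · exact Subtype.ext (by simpa using hV.2.1.2 _ (hWV (Subgroup.mem_subgroupOf.1 ha)))
  · intro D hD _ hpow d hd
    rw [Subgroup.mem_centralizer_iff]
    intro w hw
    have hDC : D.map K.subtype ≤ Subgroup.centralizer (V : Set G) := by
      refine pReduced_le_centralizer_subnormal hV (hD.isSubnormal.trans' hK) ?_
      rintro _ ⟨e, he, rfl⟩
      obtain ⟨k, hk⟩ := hpow e he
      obtain ⟨j, hj⟩ := exists_pow_mem_pResidual (p := p) (e ^ p ^ k)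
      refine ⟨k + j + 1, Subgroup.mem_centralizer_iff.2 fun v hv => ?_⟩
      set c : G := (((e ^ p ^ k) ^ p ^ j : ↥K) : G) with hc
      have hcR : c ∈ R := Subgroup.mem_map_of_mem K.subtype hj
      have hu : ⁅c, v⁆ ∈ W := by
        rw [← commutatorElement_inv]
        exact W.inv_mem (Subgroup.commutator_mem_commutator hv hcR)
      have hcu : c * ⁅c, v⁆ = ⁅c, v⁆ * c := by
        have h1 := pow_mem hk (p ^ j)
        exact (congrArg Subtype.val
          (Subgroup.mem_centralizer_iff.1 h1 ⟨_, hRK (hWR hu)⟩ (Subgroup.mem_subgroupOf.2 hu))).symm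
      have e1 := CfsgLib.Coprime.conj_pow_of_conj_eq_mul (a := c) (x := v) (y := ⁅c, v⁆)
        (by simp [commutatorElement_def]) hcu p
      rw [hV.2.1.2 _ (hWV hu), one_mul] at e1
      have e2 : (e : G) ^ p ^ (k + j + 1) = c ^ p := by
        rw [hc, SubgroupClass.coe_pow, SubgroupClass.coe_pow, ← pow_mul, ← pow_mul]
        congr 1
        ring
      show v * ((e : G) ^ p ^ (k + j + 1)) = (e : G) ^ p ^ (k + j + 1) * v
      rw [e2]
      exact (mul_inv_eq_iff_eq_mul.1 e1).symm
    exact Subtype.ext (Subgroup.mem_centralizer_iff.1 (hDC (Subgroup.mem_map_of_mem _ hd)) _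
      (hWV (Subgroup.mem_subgroupOf.1 hw)))

end CfsgLib.CharP
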